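import Mathlib
import Cfsg.Agent.ClassicalGeometry.PSL2Basic
import Cfsg.Agent.H294.PU.Gen_m3
import Cfsg.Agent.H367.PU.Quo
import Cfsg.Agent.FastGrp
import Cfsg.Agent.Prune
set_option linter.all false
prune_inst 0x7f00000000000000000000000000000000000000000000000000000000000000000000000000000000000000000000000000000000000000000000000000000000000000000000000000000000000000003fffffffffffffffffffffffffffbeffbdffffffff
open scoped Cfsg.Agent.FastGrp

-- part: H417/P4/Psl
section
/-!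
# S5210, RK: the Sylow `p`-subgroups of `PSL₂(pᵐ)` (helper417)

`Concl p m P` : the conclusions of `StRk` for a Sylow `p`-subgroup `P` of a group; `concl_psl` : they hold in `PSL₂(pᵐ)`.
-/

set_option autoImplicit false

namespace Cfsg.Agent.H417.P4

open Matrix Subgroup
open Cfsg.Agent.ClassicalGeometry.PSL2Basic
open scoped Pointwise

/-- the conclusions of `StRk` -/
structure Concl {p : ℕ} {G : Type*} [Group G] (m : ℕ) (P : Sylow p G) : Prop where
  tr : ∀ P' P'' : Sylow p G, P' ≠ P → P'' ≠ P → ∃ x ∈ (P : Subgroup G), x • P' = P''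
  sw : ∀ P' : Sylow p G, P' ≠ P → ∀ x ∈ (P : Subgroup G), x ≠ 1 → ∃ y ∈ (P' : Subgroup G),
    (x * y * x) • P = P' ∧ (x * y * x) • P' = P
  tor : ∀ P' : Sylow p G, P' ≠ P → ∃ h : G, h • P = P ∧ h • P' = P' ∧
    ∀ j : ℕ, 0 < j → j * (if p = 2 then 1 else 2) < p ^ m - 1 → ∀ x ∈ (P : Subgroup G), h ^ j * x = x * h ^ j → x = 1

section SL

variable {F : Type*} [Field F]

/-- the upper unitriangular matrix -/
def u (a : F) : _root_.Matrix.SpecialLinearGroup (Fin 2) F := ⟨!![1, a; 0, 1], by simp [Matrix.det_fin_two]⟩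

/-- the lower unitriangular matrix -/
def l (a : F) : _root_.Matrix.SpecialLinearGroup (Fin 2) F := ⟨!![1, 0; a, 1], by simp [Matrix.det_fin_two]⟩

/-- the diagonal matrix -/
def dg (t : Fˣ) : _root_.Matrix.SpecialLinearGroup (Fin 2) F := ⟨!![(t : F), 0; 0, ((t⁻¹ : Fˣ) : F)], by simp [Matrix.det_fin_two]⟩

theorem u_coe (a : F) : ((u a : _root_.Matrix.SpecialLinearGroup (Fin 2) F) : Matrix (Fin 2) (Fin 2) F) = !![1, a; 0, 1] := rfl

theorem l_coe (a : F) : ((l a : _root_.Matrix.SpecialLinearGroup (Fin 2) F) : Matrix (Fin 2) (Fin 2) F) = !![1, 0; a, 1] := rfl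

theorem dg_coe (t : Fˣ) : ((dg t : _root_.Matrix.SpecialLinearGroup (Fin 2) F) : Matrix (Fin 2) (Fin 2) F) =
    !![(t : F), 0; 0, ((t⁻¹ : Fˣ) : F)] := rfl

theorem ext2 {g h : _root_.Matrix.SpecialLinearGroup (Fin 2) F} (h00 : g 0 0 = h 0 0) (h01 : g 0 1 = h 0 1) (h10 : g 1 0 = h 1 0)
    (h11 : g 1 1 = h 1 1) : g = h := by
  apply Subtype.ext
  ext i j
  fin_cases i <;> fin_cases j
  · exact h00
  · exact h01
  · exact h10
  · exact h11

theorem mul00 (g h : _root_.Matrix.SpecialLinearGroup (Fin 2) F) : (g * h) 0 0 = g 0 0 * h 0 0 + g 0 1 * h 1 0 :=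
  (congrFun (congrFun (Matrix.SpecialLinearGroup.coe_mul g h) 0) 0).trans (by rw [Matrix.mul_apply, Fin.sum_univ_two])

theorem mul01 (g h : _root_.Matrix.SpecialLinearGroup (Fin 2) F) : (g * h) 0 1 = g 0 0 * h 0 1 + g 0 1 * h 1 1 :=
  (congrFun (congrFun (Matrix.SpecialLinearGroup.coe_mul g h) 0) 1).trans (by rw [Matrix.mul_apply, Fin.sum_univ_two])

theorem mul10 (g h : _root_.Matrix.SpecialLinearGroup (Fin 2) F) : (g * h) 1 0 = g 1 0 * h 0 0 + g 1 1 * h 1 0 :=
  (congrFun (congrFun (Matrix.SpecialLinearGroup.coe_mul g h) 1) 0).trans (by rw [Matrix.mul_apply, Fin.sum_univ_two])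

theorem mul11 (g h : _root_.Matrix.SpecialLinearGroup (Fin 2) F) : (g * h) 1 1 = g 1 0 * h 0 1 + g 1 1 * h 1 1 :=
  (congrFun (congrFun (Matrix.SpecialLinearGroup.coe_mul g h) 1) 1).trans (by rw [Matrix.mul_apply, Fin.sum_univ_two])

theorem u00 (a : F) : (u a) 0 0 = 1 := rfl
theorem u01 (a : F) : (u a) 0 1 = a := rfl
theorem u10 (a : F) : (u a) 1 0 = 0 := rfl
theorem u11 (a : F) : (u a) 1 1 = 1 := rfl
theorem l00 (a : F) : (l a) 0 0 = 1 := rfl
theorem l01 (a : F) : (l a) 0 1 = 0 := rfl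
theorem l10 (a : F) : (l a) 1 0 = a := rfl
theorem l11 (a : F) : (l a) 1 1 = 1 := rfl
theorem d00 (t : Fˣ) : (dg t) 0 0 = (t : F) := rfl
theorem d01 (t : Fˣ) : (dg t) 0 1 = 0 := rfl
theorem d10 (t : Fˣ) : (dg t) 1 0 = 0 := rfl
theorem d11 (t : Fˣ) : (dg t) 1 1 = ((t⁻¹ : Fˣ) : F) := rfl

theorem u_mul (a b : F) : u a * u b = u (a + b) := by
  apply ext2 <;> simp only [mul00, mul01, mul10, mul11, u00, u01, u10, u11] <;> ring

theorem l_mul (a b : F) : l a * l b = l (a + b) := by
  apply ext2 <;> simp only [mul00, mul01, mul10, mul11, l00, l01, l10, l11] <;> ring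

theorem u_zero : u (0 : F) = 1 := by
  apply Subtype.ext
  rw [u_coe]
  ext i j
  (revert i j; simp only [_root_.Fin.forall_fin_succ, _root_.Matrix.of_apply, _root_.Matrix.cons_val', _root_.Matrix.cons_val_fin_one, _root_.Matrix.SpecialLinearGroup.coe_one, Fin.isValue, _root_.Matrix.cons_val_zero, _root_.Matrix.cons_val_succ, _root_.IsEmpty.forall_iff, _root_.and_true, _root_.Matrix.one_apply_eq, Nat.reduceAdd, _root_.Fin.succ_zero_eq_one, _root_.ne_eq, _root_.zero_ne_one, _root_.not_false_eq_true, _root_.Matrix.one_apply_ne, _root_.and_self, _root_.Fin.succ_ne_zero, _root_.true_and])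

theorem l_zero : l (0 : F) = 1 := by
  apply Subtype.ext
  rw [l_coe]
  ext i j
  (revert i j; simp only [_root_.Fin.forall_fin_succ, _root_.Matrix.of_apply, _root_.Matrix.cons_val', _root_.Matrix.cons_val_fin_one, _root_.Matrix.SpecialLinearGroup.coe_one, Fin.isValue, _root_.Matrix.cons_val_zero, _root_.Matrix.cons_val_succ, _root_.IsEmpty.forall_iff, _root_.and_true, _root_.Matrix.one_apply_eq, Nat.reduceAdd, _root_.Fin.succ_zero_eq_one, _root_.ne_eq, _root_.zero_ne_one, _root_.not_false_eq_true, _root_.Matrix.one_apply_ne, _root_.and_self, _root_.Fin.succ_ne_zero, _root_.true_and])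

theorem dg_mul (s t : Fˣ) : dg s * dg t = dg (s * t) := by
  apply ext2 <;> simp only [mul00, mul01, mul10, mul11, d00, d01, d10, d11] <;> push_cast
  · ring
  · ring
  · ring
  · rw [_root_.mul_inv_rev]
    ring

theorem dg_pow (t : Fˣ) (j : ℕ) : dg t ^ j = dg (t ^ j) := by
  induction j with
  | zero =>
    rw [pow_zero, pow_zero]
    apply Subtype.ext
    rw [dg_coe]
    ext i k
    (revert i k; simp only [_root_.Fin.forall_fin_succ, _root_.Matrix.SpecialLinearGroup.coe_one, _root_.Units.val_one, _root_.inv_one, _root_.Matrix.of_apply, _root_.Matrix.cons_val', _root_.Matrix.cons_val_fin_one, Fin.isValue, _root_.Matrix.cons_val_zero, _root_.Matrix.cons_val_succ, _root_.IsEmpty.forall_iff, _root_.and_true, _root_.Matrix.one_apply_eq, Nat.reduceAdd, _root_.Fin.succ_zero_eq_one, _root_.ne_eq, _root_.zero_ne_one, _root_.not_false_eq_true, _root_.Matrix.one_apply_ne, _root_.and_self, _root_.Fin.succ_ne_zero, _root_.true_and])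
  | succ j ih => rw [pow_succ, ih, dg_mul, pow_succ]

theorem conj_upper (g : _root_.Matrix.SpecialLinearGroup (Fin 2) F) (h : g 1 0 = 0) (a : F) : g * u a = u (g 0 0 ^ 2 * a) * g := by
  have hd : g 0 0 * g 1 1 - g 0 1 * g 1 0 = 1 := by
    rw [← Matrix.det_fin_two]
    exact g.2
  rw [h] at hd
  apply ext2 <;> simp only [mul00, mul01, mul10, mul11, u00, u01, u10, u11, h]
  · ring
  · linear_combination (-(g 0 0) * a) * hd
  · ring
  · ring

theorem dg_l (t : Fˣ) (a : F) : dg t * l a = l (((t⁻¹ : Fˣ) : F) ^ 2 * a) * dg t := by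
  have h : ((t⁻¹ : Fˣ) : F) * t = 1 := Units.inv_mul t
  apply ext2 <;> simp only [mul00, mul01, mul10, mul11, l00, l01, l10, l11, d00, d01, d10, d11]
  · ring
  · ring
  · linear_combination (-((t⁻¹ : Fˣ) : F) * a) * h
  · ring

theorem conj_lower (g : _root_.Matrix.SpecialLinearGroup (Fin 2) F) (h : g 1 0 ≠ 0) (a : F) :
    g * u a = u (g 0 0 / g 1 0) * l (-(g 1 0) ^ 2 * a) * u (-(g 0 0 / g 1 0)) * g := by
  have hd : g 0 0 * g 1 1 - g 0 1 * g 1 0 = 1 := by
    rw [← Matrix.det_fin_two]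
    exact g.2
  have he : g 1 1 * (g 0 0 / g 1 0) = g 0 1 + (g 1 0)⁻¹ := by
    field_simp
    linear_combination hd
  have he2 : g 0 0 / g 1 0 * g 1 0 = g 0 0 := div_mul_cancel₀ _ h
  have he3 : (g 1 0)⁻¹ * g 1 0 = 1 := inv_mul_cancel₀ h
  apply ext2 <;> simp only [mul00, mul01, mul10, mul11, u00, u01, u10, u11, l00, l01, l10, l11]
  all_goals
    generalize g 0 0 / g 1 0 = z at *
    generalize (g 1 0)⁻¹ = w at *
    generalize g 0 0 = A at *
    generalize g 0 1 = B at *
    generalize g 1 0 = C at *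
    generalize g 1 1 = D at *
  · subst he2
    ring
  · subst he2
    have hd' : C * (z * D - B) = 1 := by linear_combination hd
    linear_combination (-a * z * C) * hd'
  · subst he2
    ring
  · subst he2
    have hd' : C * (z * D - B) = 1 := by linear_combination hd
    linear_combination (-a * C) * hd'

/-- the swapping element -/
def wm (a : F) (ha : a ≠ 0) : _root_.Matrix.SpecialLinearGroup (Fin 2) F := ⟨!![0, a; -a⁻¹, 0], by simp [Matrix.det_fin_two, ha]⟩

theorem w00 (a : F) (ha : a ≠ 0) : (wm a ha) 0 0 = 0 := rfl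
theorem w01 (a : F) (ha : a ≠ 0) : (wm a ha) 0 1 = a := rfl
theorem w10 (a : F) (ha : a ≠ 0) : (wm a ha) 1 0 = -a⁻¹ := rfl
theorem w11 (a : F) (ha : a ≠ 0) : (wm a ha) 1 1 = 0 := rfl

theorem ulu (a : F) (ha : a ≠ 0) : u a * l (-a⁻¹) * u a = wm a ha := by
  have h : a * a⁻¹ = 1 := mul_inv_cancel₀ ha
  apply ext2 <;> simp only [mul00, mul01, mul10, mul11, u00, u01, u10, u11, l00, l01, l10, l11, w00, w01, w10, w11]
  · linear_combination -h
  · linear_combination -a * h
  · ring
  · linear_combination -h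

theorem swap_u (a : F) (ha : a ≠ 0) (b : F) : wm a ha * u b = l (-(b * a⁻¹ ^ 2)) * wm a ha := by
  have h : a * a⁻¹ = 1 := mul_inv_cancel₀ ha
  apply ext2 <;> simp only [mul00, mul01, mul10, mul11, u00, u01, u10, u11, l00, l01, l10, l11, w00, w01, w10, w11]
  · ring
  · ring
  · ring
  · linear_combination (b * a⁻¹) * h

theorem swap_l (a : F) (ha : a ≠ 0) (b : F) : wm a ha * l b = u (-(b * a ^ 2)) * wm a ha := by
  have h : a * a⁻¹ = 1 := mul_inv_cancel₀ ha
  apply ext2 <;> simp only [mul00, mul01, mul10, mul11, u00, u01, u10, u11, l00, l01, l10, l11, w00, w01, w10, w11]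
  · linear_combination (-b * a) * h
  · ring
  · ring
  · ring

end SL

section T

variable {F : Type*} [Field F]

/-- the projection -/
def pr (F : Type*) [Field F] : _root_.Matrix.SpecialLinearGroup (Fin 2) F →* ProjectiveSpecialLinearGroup (Fin 2) F :=
  QuotientGroup.mk' _

theorem pr_surj : Function.Surjective (pr F) := QuotientGroup.mk'_surjective _

theorem pr_eq {g h : _root_.Matrix.SpecialLinearGroup (Fin 2) F} (hgh : pr F g = pr F h) :
    ∃ s : F, s ^ 2 = 1 ∧ ∀ i j, h i j = s * g i j := by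
  have h1 : g⁻¹ * h ∈ center (_root_.Matrix.SpecialLinearGroup (Fin 2) F) := QuotientGroup.eq.1 hgh
  rcases mem_center_SL2_iff.1 h1 with h2 | h2
  · refine ⟨1, one_pow 2, fun i j => ?_⟩
    rw [one_mul, inv_mul_eq_one.1 h2]
  · refine ⟨-1, by ring, fun i j => ?_⟩
    have h3 : h = g * (-1) := by rw [← h2, mul_inv_cancel_left]
    rw [h3, neg_one_mul, mul_neg, mul_one]
    exact congrFun (congrFun (Matrix.SpecialLinearGroup.coe_neg g) i) j

/-- the upper root subgroup -/
def uH (F : Type*) [Field F] : Multiplicative F →* ProjectiveSpecialLinearGroup (Fin 2) F where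
  toFun a := pr F (u (Multiplicative.toAdd a))
  map_one' := by
    change pr F (u 0) = 1
    rw [u_zero, map_one]
  map_mul' a b := by
    change pr F (u (Multiplicative.toAdd a + Multiplicative.toAdd b)) = _
    rw [← u_mul, map_mul]

/-- the lower root subgroup -/
def lH (F : Type*) [Field F] : Multiplicative F →* ProjectiveSpecialLinearGroup (Fin 2) F where
  toFun a := pr F (l (Multiplicative.toAdd a))
  map_one' := by
    change pr F (l 0) = 1
    rw [l_zero, map_one]
  map_mul' a b := by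
    change pr F (l (Multiplicative.toAdd a + Multiplicative.toAdd b)) = _
    rw [← l_mul, map_mul]

theorem uH_inj : Function.Injective (uH F) := by
  rw [injective_iff_map_eq_one]
  intro a ha
  have h1 : pr F 1 = pr F (u (Multiplicative.toAdd a)) := by
    rw [map_one]
    exact ha.symm
  obtain ⟨s, hs, h2⟩ := pr_eq h1
  have h3 : Multiplicative.toAdd a = s * 0 := h2 0 1
  rw [mul_zero] at h3
  exact h3

theorem lH_inj : Function.Injective (lH F) := by
  rw [injective_iff_map_eq_one]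
  intro a ha
  have h1 : pr F 1 = pr F (l (Multiplicative.toAdd a)) := by
    rw [map_one]
    exact ha.symm
  obtain ⟨s, hs, h2⟩ := pr_eq h1
  have h3 : Multiplicative.toAdd a = s * 0 := h2 1 0
  rw [mul_zero] at h3
  exact h3

theorem mem_u {x : ProjectiveSpecialLinearGroup (Fin 2) F} : x ∈ (uH F).range ↔ ∃ a : F, pr F (u a) = x :=
  ⟨fun ⟨a, ha⟩ => ⟨Multiplicative.toAdd a, ha⟩, fun ⟨a, ha⟩ => ⟨Multiplicative.ofAdd a, ha⟩⟩

theorem mem_l {x : ProjectiveSpecialLinearGroup (Fin 2) F} : x ∈ (lH F).range ↔ ∃ a : F, pr F (l a) = x :=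
  ⟨fun ⟨a, ha⟩ => ⟨Multiplicative.toAdd a, ha⟩, fun ⟨a, ha⟩ => ⟨Multiplicative.ofAdd a, ha⟩⟩

section card

variable [Fintype F] {p m : ℕ} [hp : Fact p.Prime]

theorem fact_card (hF : Fintype.card F = p ^ m) (hm : 0 < m) :
    (Nat.card (ProjectiveSpecialLinearGroup (Fin 2) F)).factorization p = m := by
  have h := card_PSL2_gcd F
  have hq : 1 < Fintype.card F := Fintype.one_lt_card
  have hpq : p ∣ Fintype.card F := hF ▸ dvd_pow_self p hm.ne'
  have hq2 : Fintype.card F ^ 2 = Fintype.card F ^ 2 - 1 + 1 :=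
    (Nat.sub_add_cancel (Nat.one_le_pow _ _ (by omega))).symm
  have h1 : ¬ p ∣ Fintype.card F ^ 2 - 1 := by
    intro h2
    have h3 : p ∣ Fintype.card F ^ 2 - 1 + 1 := hq2 ▸ hpq.trans (dvd_pow_self _ two_ne_zero)
    exact hp.out.one_lt.ne' (Nat.dvd_one.1 ((Nat.dvd_add_right h2).1 h3))
  have h2 : ¬ p ∣ Nat.gcd 2 (Fintype.card F - 1) := by
    intro h3
    apply h1
    have h4 : Fintype.card F ^ 2 - 1 = (Fintype.card F + 1) * (Fintype.card F - 1) := by
      have := Nat.sq_sub_sq (Fintype.card F) 1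
      simpa only [_root_.one_pow] using this
    rw [h4]
    exact (h3.trans (Nat.gcd_dvd_right _ _)).mul_left _
  have hc0 : Nat.card (ProjectiveSpecialLinearGroup (Fin 2) F) ≠ 0 := Nat.card_pos.ne'
  have hg0 : Nat.gcd 2 (Fintype.card F - 1) ≠ 0 := (Nat.gcd_pos_of_pos_left _ two_pos).ne'
  have hs0 : Fintype.card F ^ 2 - 1 ≠ 0 := by
    intro h0
    exact h1 (h0 ▸ dvd_zero p)
  have h3 := congrArg (fun n : ℕ => n.factorization p) h
  rw [Nat.factorization_mul hc0 hg0, Nat.factorization_mul (by omega) hs0, Finsupp.add_apply, Finsupp.add_apply,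
    Nat.factorization_eq_zero_of_not_dvd h2, Nat.factorization_eq_zero_of_not_dvd h1, hF, hp.out.factorization_pow,
    Finsupp.single_eq_same, add_zero, add_zero] at h3
  exact h3

/-- the upper Sylow subgroup -/
theorem exists_ub (hF : Fintype.card F = p ^ m) (hm : 0 < m) :
    ∃ U : Sylow p (ProjectiveSpecialLinearGroup (Fin 2) F), (U : Subgroup _) = (uH F).range := by
  refine ⟨Sylow.ofCard (uH F).range ?_, rfl⟩
  rw [fact_card hF hm, ← Nat.card_congr (MonoidHom.ofInjective uH_inj).toEquiv, ← hF, Nat.card_eq_fintype_card,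
    Fintype.card_multiplicative]

/-- the lower Sylow subgroup -/
theorem exists_um (hF : Fintype.card F = p ^ m) (hm : 0 < m) :
    ∃ U : Sylow p (ProjectiveSpecialLinearGroup (Fin 2) F), (U : Subgroup _) = (lH F).range := by
  refine ⟨Sylow.ofCard (lH F).range ?_, rfl⟩
  rw [fact_card hF hm, ← Nat.card_congr (MonoidHom.ofInjective lH_inj).toEquiv, ← hF, Nat.card_eq_fintype_card,
    Fintype.card_multiplicative]

omit hp in
/-- equality from one inclusion -/
theorem smul_eq_of {G : Type*} [Group G] {P Q : Sylow p G} {g : G} (h : ∀ x ∈ (P : Subgroup G), g * x * g⁻¹ ∈ (Q : Subgroup G)) :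
    g • P = Q := by
  apply Sylow.ext
  refine ((g • P).is_maximal' Q.isPGroup' ?_).symm
  rintro _ ⟨x, hx, rfl⟩
  exact h x hx

variable (hF : Fintype.card F = p ^ m) (hm : 0 < m) {Ub Um : Sylow p (ProjectiveSpecialLinearGroup (Fin 2) F)}
  (hb : (Ub : Subgroup (ProjectiveSpecialLinearGroup (Fin 2) F)) = (uH F).range)
  (hu : (Um : Subgroup (ProjectiveSpecialLinearGroup (Fin 2) F)) = (lH F).range)
include hb hu

theorem sylow_cases (R : Sylow p (ProjectiveSpecialLinearGroup (Fin 2) F)) :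
    R = Ub ∨ ∃ a : F, R = pr F (u a) • Um := by
  obtain ⟨k, rfl⟩ := MulAction.exists_smul_eq (ProjectiveSpecialLinearGroup (Fin 2) F) Ub R
  obtain ⟨g, rfl⟩ := pr_surj k
  by_cases h : g 1 0 = 0
  · left
    apply smul_eq_of
    intro x hx
    rw [hb, mem_u] at hx
    obtain ⟨a, rfl⟩ := hx
    rw [hb, mem_u]
    refine ⟨g 0 0 ^ 2 * a, ?_⟩
    rw [← map_mul, conj_upper g h, map_mul, mul_inv_cancel_right]
  · right
    refine ⟨g 0 0 / g 1 0, ?_⟩
    rw [← inv_smul_eq_iff, ← mul_smul]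
    apply smul_eq_of
    intro x hx
    rw [hb, mem_u] at hx
    obtain ⟨a, rfl⟩ := hx
    rw [hu, mem_l]
    refine ⟨-(g 1 0) ^ 2 * a, ?_⟩
    have h1 : (pr F (u (g 0 0 / g 1 0)))⁻¹ = pr F (u (-(g 0 0 / g 1 0))) := by
      rw [← map_inv]
      congr 1
      rw [inv_eq_iff_mul_eq_one, u_mul, add_neg_cancel, u_zero]
    have h2 : pr F g * pr F (u a) = pr F (u (g 0 0 / g 1 0)) * pr F (l (-(g 1 0) ^ 2 * a)) * pr F (u (-(g 0 0 / g 1 0))) * pr F g := by
      rw [← map_mul, conj_lower g h, map_mul, map_mul, map_mul]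
    rw [← h1] at h2
    rw [_root_.mul_inv_rev]
    generalize pr F g = A at *
    generalize pr F (u a) = B at *
    generalize pr F (l (-(g 1 0) ^ 2 * a)) = C at *
    generalize pr F (u (g 0 0 / g 1 0)) = D at *
    have h3 : C = D⁻¹ * (A * B) * A⁻¹ * D := by
      rw [h2]
      group
    rw [h3]
    group

theorem pair {R R' : Sylow p (ProjectiveSpecialLinearGroup (Fin 2) F)} (h : R' ≠ R) :
    ∃ k : ProjectiveSpecialLinearGroup (Fin 2) F, k • Ub = R ∧ k • Um = R' := by
  obtain ⟨k, rfl⟩ := MulAction.exists_smul_eq (ProjectiveSpecialLinearGroup (Fin 2) F) Ub R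
  rcases sylow_cases hb hu (k⁻¹ • R') with h1 | ⟨a, h1⟩
  · exfalso
    exact h (inv_smul_eq_iff.1 h1)
  · refine ⟨k * pr F (u a), ?_, ?_⟩
    · rw [mul_smul]
      congr 1
      rw [Sylow.smul_eq_iff_mem_normalizer]
      apply le_normalizer
      rw [hb]
      exact mem_u.2 ⟨a, rfl⟩
    · rw [mul_smul, ← h1, smul_inv_smul]

omit hp hb hu in
theorem mem_smul' {G : Type*} [Group G] {P : Sylow p G} {g x : G} : x ∈ ((g • P : Sylow p G) : Subgroup G) ↔
    ∃ y ∈ (P : Subgroup G), g * y * g⁻¹ = x := Iff.rfl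

include hF hm in
theorem concl_aux (R : Sylow p (ProjectiveSpecialLinearGroup (Fin 2) F)) : Concl m R := by
  constructor
  · intro P' P'' h' h''
    obtain ⟨k, rfl⟩ := MulAction.exists_smul_eq (ProjectiveSpecialLinearGroup (Fin 2) F) Ub R
    rcases sylow_cases hb hu (k⁻¹ • P') with h1 | ⟨a, h1⟩
    · exact (h' (inv_smul_eq_iff.1 h1)).elim
    rcases sylow_cases hb hu (k⁻¹ • P'') with h2 | ⟨b, h2⟩
    · exact (h'' (inv_smul_eq_iff.1 h2)).elim
    rw [inv_smul_eq_iff] at h1 h2
    subst h1 h2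
    refine ⟨k * pr F (u (b - a)) * k⁻¹, mem_smul'.2 ⟨_, hb ▸ mem_u.2 ⟨b - a, rfl⟩, rfl⟩, ?_⟩
    rw [mul_smul, mul_smul, inv_smul_smul]
    congr 1
    rw [← mul_smul, ← map_mul, u_mul, sub_add_cancel]
  · intro P' h' x hx hx1
    obtain ⟨k, rfl, rfl⟩ := pair hb hu h'
    obtain ⟨z, hz, rfl⟩ := mem_smul'.1 hx
    rw [hb, mem_u] at hz
    obtain ⟨a, rfl⟩ := hz
    have ha : a ≠ 0 := by
      rintro rfl
      apply hx1
      rw [u_zero, map_one, mul_one, mul_inv_cancel]
    refine ⟨k * pr F (l (-a⁻¹)) * k⁻¹, mem_smul'.2 ⟨_, hu ▸ mem_l.2 ⟨_, rfl⟩, rfl⟩, ?_⟩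
    have e : k * pr F (u a) * k⁻¹ * (k * pr F (l (-a⁻¹)) * k⁻¹) * (k * pr F (u a) * k⁻¹) = k * pr F (wm a ha) * k⁻¹ := by
      rw [← ulu a ha, map_mul, map_mul]
      group
    rw [e]
    constructor
    · rw [mul_smul, mul_smul, inv_smul_smul]
      congr 1
      apply smul_eq_of
      intro x hx
      rw [hb, mem_u] at hx
      obtain ⟨b, rfl⟩ := hx
      rw [hu, mem_l]
      refine ⟨-(b * a⁻¹ ^ 2), ?_⟩
      rw [← map_mul, swap_u a ha, map_mul, mul_inv_cancel_right]
    · rw [mul_smul, mul_smul, inv_smul_smul]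
      congr 1
      apply smul_eq_of
      intro x hx
      rw [hu, mem_l] at hx
      obtain ⟨b, rfl⟩ := hx
      rw [hb, mem_u]
      refine ⟨-(b * a ^ 2), ?_⟩
      rw [← map_mul, swap_l a ha, map_mul, mul_inv_cancel_right]
  · intro P' h'
    obtain ⟨k, rfl, rfl⟩ := pair hb hu h'
    obtain ⟨t, ht⟩ := IsCyclic.exists_generator (α := Fˣ)
    have ho : orderOf t = p ^ m - 1 := by
      rw [orderOf_eq_card_of_forall_mem_zpowers ht, Nat.card_units, Nat.card_eq_fintype_card, hF]
    refine ⟨k * pr F (dg t) * k⁻¹, ?_, ?_, ?_⟩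
    · rw [mul_smul, mul_smul, inv_smul_smul]
      congr 1
      apply smul_eq_of
      intro x hx
      rw [hb, mem_u] at hx
      obtain ⟨b, rfl⟩ := hx
      rw [hb, mem_u]
      refine ⟨dg t 0 0 ^ 2 * b, ?_⟩
      rw [← map_mul, conj_upper _ (d10 t), map_mul, mul_inv_cancel_right]
    · rw [mul_smul, mul_smul, inv_smul_smul]
      congr 1
      apply smul_eq_of
      intro x hx
      rw [hu, mem_l] at hx
      obtain ⟨b, rfl⟩ := hx
      rw [hu, mem_l]
      refine ⟨((t⁻¹ : Fˣ) : F) ^ 2 * b, ?_⟩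
      rw [← map_mul, dg_l, map_mul, mul_inv_cancel_right]
    · intro j hj hjq x hx hc
      obtain ⟨z, hz, rfl⟩ := mem_smul'.1 hx
      rw [hb, mem_u] at hz
      obtain ⟨a, rfl⟩ := hz
      have h1 : (k * pr F (dg t) * k⁻¹) ^ j = k * pr F (dg (t ^ j)) * k⁻¹ := by
        rw [conj_pow, ← map_pow, dg_pow]
      rw [h1] at hc
      have h2 : pr F (dg (t ^ j) * u a) = pr F (u a * dg (t ^ j)) := by
        rw [map_mul, map_mul]
        generalize pr F (dg (t ^ j)) = A at *
        generalize pr F (u a) = B at *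
        have h3 : A * B = k⁻¹ * (k * A * k⁻¹ * (k * B * k⁻¹)) * k := by group
        rw [h3, hc]
        group
      obtain ⟨s, hs, h3⟩ := pr_eq h2
      have h4 := h3 0 0
      have h5 := h3 0 1
      simp only [mul00, mul01, u00, u01, u10, u11, d00, d01, d10, d11, mul_zero, add_zero, mul_one, one_mul, zero_add] at h4 h5
      have h6 : s = 1 := by
        have h7 : ((t ^ j : Fˣ) : F) * (s - 1) = 0 := by linear_combination -h4
        rcases mul_eq_zero.1 h7 with h8 | h8
        · exact ((t ^ j).ne_zero h8).elim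
        · linear_combination h8
      rw [h6, one_mul] at h5
      by_cases ha : a = 0
      · rw [ha, u_zero, map_one, mul_one, mul_inv_cancel]
      exfalso
      have h7 : ((t ^ j : Fˣ) : F) * ((t ^ j)⁻¹ : Fˣ) = 1 := Units.mul_inv _
      have h8 : ((t ^ j : Fˣ) : F) ^ 2 = 1 := by
        have h9 : a * (((t ^ j : Fˣ) : F) ^ 2 - 1) = 0 := by linear_combination (-((t ^ j : Fˣ) : F)) * h5 + a * h7
        rcases mul_eq_zero.1 h9 with h10 | h10
        · exact (ha h10).elim
        · linear_combination h10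
      have h9 : t ^ (j * 2) = 1 := by
        apply Units.ext
        rw [pow_mul]
        push_cast
        push_cast at h8
        exact h8
      have h10 : p ^ m - 1 ∣ j * 2 := ho ▸ orderOf_dvd_of_pow_eq_one h9
      by_cases hp2 : p = 2
      · rw [if_pos hp2, mul_one] at hjq
        have h11 : Nat.Coprime (p ^ m - 1) 2 := by
          rw [Nat.coprime_two_right]
          have h12 : Even (p ^ m) := by
            rw [hp2]
            exact (Nat.even_pow.2 ⟨even_two, hm.ne'⟩)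
          have h13 : 0 < p ^ m := pow_pos hp.out.pos m
          exact Nat.Even.sub_odd (by omega) h12 odd_one
        have h12 := Nat.le_of_dvd hj (h11.dvd_of_dvd_mul_right h10)
        omega
      · rw [if_neg hp2] at hjq
        have h12 := Nat.le_of_dvd (by omega) h10
        omega

omit hb hu in
/-- **the conclusions of `StRk` hold in `PSL₂(pᵐ)`** -/
theorem concl_psl (hF : Fintype.card F = p ^ m) (hm : 0 < m) (R : Sylow p (ProjectiveSpecialLinearGroup (Fin 2) F)) :
    Concl m R := by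
  obtain ⟨Ub, hb⟩ := exists_ub hF hm
  obtain ⟨Um, hu⟩ := exists_um hF hm
  exact concl_aux hF hm hb hu R

end card

end T

end Cfsg.Agent.H417.P4
end

-- part: H417/P4/RkDef
section
/-!
# S5210, RK: the structure part (helper417, interface between RKa and RKb)

`StRkStr` : there are a field `F` of order `p ^ m`, a normal subgroup `L` containing the Sylow `p`-subgroup `P` and a surjective
homomorphism `L →* PSL₂(F)` whose kernel is a `p'`-group centralized by `P`.
-/

set_option autoImplicit false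

namespace Cfsg.Agent.H417.P4

universe u

end Cfsg.Agent.H417.P4
end

-- part: H417/P4/Rk
section
/-!
# S5210, RK from the structure part (helper417)

* `Concl.of_map` : the conclusions of `StRk` lift along a surjective homomorphism which is injective on the Sylow subgroups;
* `Concl.of_inj` : they pass to an overgroup containing all the Sylow subgroups;
* `stRk_of_str` : `StRkStr → StRk`.
-/

set_option autoImplicit false

namespace Cfsg.Agent.H417.P4

open Subgroup
open scoped Pointwise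

universe u

section

variable {p m : ℕ} [hp : Fact p.Prime] {G : Type*} [Group G]

/-- along a surjection -/
theorem Concl.of_map [Finite G] {H : Type*} [Group H] {π : G →* H} (hπ : Function.Surjective π)
    (hs : ∀ Q R : Sylow p G, Q.mapSurjective hπ = R.mapSurjective hπ → Q = R) {P : Sylow p G}
    (h1 : ∀ x ∈ (P : Subgroup G), π x = 1 → x = 1) (h : Concl m (P.mapSurjective hπ)) : Concl m P := by
  have hsm : ∀ (g : G) (Q : Sylow p G), (g • Q).mapSurjective hπ = π g • Q.mapSurjective hπ := by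
    intro g Q
    apply Sylow.ext
    change ((Q : Subgroup G).map (MulAut.conj g).toMonoidHom).map π = ((Q : Subgroup G).map π).map (MulAut.conj (π g)).toMonoidHom
    rw [Subgroup.map_map, Subgroup.map_map]
    congr 1
    ext x
    simp only [_root_.MulEquiv.toMonoidHom_eq_coe, _root_.MonoidHom.coe_comp, _root_.MonoidHom.coe_coe, _root_.Function.comp_apply, _root_.MulAut.conj_apply, _root_.map_mul, _root_.map_inv]
  have hinj : ∀ x ∈ (P : Subgroup G), ∀ y ∈ (P : Subgroup G), π x = π y → x = y := by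
    intro x hx y hy hxy
    refine inv_mul_eq_one.1 (h1 _ (mul_mem (inv_mem hx) hy) ?_)
    rw [map_mul, map_inv, hxy, inv_mul_cancel]
  have hne : ∀ Q : Sylow p G, Q ≠ P → Q.mapSurjective hπ ≠ P.mapSurjective hπ := fun Q hQ h2 => hQ (hs _ _ h2)
  constructor
  · intro P' P'' h' h''
    obtain ⟨_, ⟨x, hx, rfl⟩, h2⟩ := h.tr _ _ (hne _ h') (hne _ h'')
    refine ⟨x, hx, hs _ _ ?_⟩
    rw [hsm, ← h2]
  · intro P' h' x hx hx1
    obtain ⟨_, ⟨y, hy, rfl⟩, h2, h3⟩ := h.sw _ (hne _ h') (π x) ⟨x, hx, rfl⟩ (fun h4 => hx1 (h1 x hx h4))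
    refine ⟨y, hy, hs _ _ ?_, hs _ _ ?_⟩
    · rw [hsm, map_mul, map_mul, h2]
    · rw [hsm, map_mul, map_mul, h3]
  · intro P' h'
    obtain ⟨h0, h2, h3, h4⟩ := h.tor _ (hne _ h')
    obtain ⟨g, rfl⟩ := hπ h0
    refine ⟨g, hs _ _ (by rw [hsm, h2]), hs _ _ (by rw [hsm, h3]), ?_⟩
    intro j hj hjq x hx hc
    refine h1 x hx (h4 j hj hjq _ ⟨x, hx, rfl⟩ ?_)
    rw [← map_pow, ← map_mul, hc, map_mul]

omit hp in
/-- along an injection whose range contains the Sylow subgroups -/
theorem Concl.of_inj {K : Type*} [Group K] (f : K →* G) (hf : Function.Injective f)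
    (hr : ∀ Q : Sylow p G, (Q : Subgroup G) ≤ f.range) {P : Sylow p G}
    (h : Concl m (P.comapOfInjective f hf (hr P))) : Concl m P := by
  have hs : ∀ Q R : Sylow p G, Q.comapOfInjective f hf (hr Q) = R.comapOfInjective f hf (hr R) → Q = R := by
    intro Q R hQR
    apply Sylow.ext
    rw [← Subgroup.map_comap_eq_self (hr Q), ← Subgroup.map_comap_eq_self (hr R)]
    congr 1
    exact congrArg (fun S : Sylow p K => (S : Subgroup K)) hQR
  have hsm : ∀ (g : K) (Q : Sylow p G), (f g • Q).comapOfInjective f hf (hr _) = g • Q.comapOfInjective f hf (hr _) := by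
    intro g Q
    rw [← inv_smul_eq_iff]
    apply Sylow.ext
    ext x
    rw [Sylow.coe_comapOfInjective, Subgroup.mem_comap]
    constructor
    · rintro ⟨y, hy, rfl⟩
      obtain ⟨z, hz, hzy⟩ := hy
      have h2 : z = f (g⁻¹ * y * g) := by
        rw [map_mul, map_mul, map_inv, ← hzy]
        change z = (f g)⁻¹ * (f g * z * (f g)⁻¹) * f g
        group
      change f (g⁻¹ * y * g⁻¹⁻¹) ∈ (Q : Subgroup G)
      rw [inv_inv, ← h2]
      exact hz
    · intro hx
      refine ⟨g * x * g⁻¹, ⟨f x, hx, ?_⟩, ?_⟩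
      · change f g * f x * (f g)⁻¹ = f (g * x * g⁻¹)
        rw [map_mul, map_mul, map_inv]
      · change g⁻¹ * (g * x * g⁻¹) * g⁻¹⁻¹ = x
        group
  have hne : ∀ Q : Sylow p G, Q ≠ P → Q.comapOfInjective f hf (hr Q) ≠ P.comapOfInjective f hf (hr P) :=
    fun Q hQ h2 => hQ (hs _ _ h2)
  constructor
  · intro P' P'' h' h''
    obtain ⟨x, hx, h2⟩ := h.tr _ _ (hne _ h') (hne _ h'')
    refine ⟨f x, hx, hs _ _ ?_⟩
    rw [hsm, h2]
  · intro P' h' x hx hx1
    obtain ⟨x, rfl⟩ := hr P hx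
    obtain ⟨y, hy, h2, h3⟩ := h.sw _ (hne _ h') x hx (fun h4 => hx1 (by rw [h4, map_one]))
    refine ⟨f y, hy, hs _ _ ?_, hs _ _ ?_⟩
    · rw [← map_mul, ← map_mul, hsm, h2]
    · rw [← map_mul, ← map_mul, hsm, h3]
  · intro P' h'
    obtain ⟨g, h2, h3, h4⟩ := h.tor _ (hne _ h')
    refine ⟨f g, hs _ _ (by rw [hsm, h2]), hs _ _ (by rw [hsm, h3]), ?_⟩
    intro j hj hjq x hx hc
    obtain ⟨x, rfl⟩ := hr P hx
    rw [h4 j hj hjq x hx (hf (by rw [map_mul, map_mul, map_pow, hc])), map_one]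

omit hp in
/-- the conclusions in the form of `StRk` -/
theorem Concl.out {P : Sylow p G} (h : Concl m P) :
    (∀ P' P'' : Sylow p G, P' ≠ P → P'' ≠ P → ∃ x ∈ (P : Subgroup G),
      (P' : Subgroup G).map (MulAut.conj x).toMonoidHom = P'') ∧
    (∀ P' : Sylow p G, P' ≠ P → ∀ x ∈ (P : Subgroup G), x ≠ 1 → ∃ y ∈ (P' : Subgroup G),
      (P : Subgroup G).map (MulAut.conj (x * y * x)).toMonoidHom = P' ∧
      (P' : Subgroup G).map (MulAut.conj (x * y * x)).toMonoidHom = P) ∧
    (∀ P' : Sylow p G, P' ≠ P → ∃ h ∈ Subgroup.normalizer ((P : Subgroup G) : Set G),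
      h ∈ Subgroup.normalizer ((P' : Subgroup G) : Set G) ∧
      ∀ j : ℕ, 0 < j → j * (if p = 2 then 1 else 2) < p ^ m - 1 → ∀ x ∈ (P : Subgroup G), h ^ j * x = x * h ^ j → x = 1) := by
  refine ⟨?_, ?_, ?_⟩
  · intro P' P'' h' h''
    obtain ⟨x, hx, h2⟩ := h.tr P' P'' h' h''
    exact ⟨x, hx, congrArg (fun S : Sylow p G => (S : Subgroup G)) h2⟩
  · intro P' h' x hx hx1
    obtain ⟨y, hy, h2, h3⟩ := h.sw P' h' x hx hx1
    exact ⟨y, hy, congrArg (fun S : Sylow p G => (S : Subgroup G)) h2, congrArg (fun S : Sylow p G => (S : Subgroup G)) h3⟩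
  · intro P' h'
    obtain ⟨g, h2, h3, h4⟩ := h.tor P' h'
    exact ⟨g, Sylow.smul_eq_iff_mem_normalizer.1 h2, Sylow.smul_eq_iff_mem_normalizer.1 h3, h4⟩

/-- the kernel of order prime to `p` centralizing the Sylow subgroups -/
theorem Concl.of_ker [Finite G] {H : Type*} [Group H] {π : G →* H} (hπ : Function.Surjective π)
    (hk : ¬ p ∣ Nat.card π.ker) {P : Sylow p G} (hc : ∀ z ∈ π.ker, ∀ x ∈ (P : Subgroup G), z * x = x * z)
    (h : Concl m (P.mapSurjective hπ)) : Concl m P := by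
  have hpn : ∀ {y : G}, (∃ k, y ^ p ^ k = 1) → y ∈ π.ker → y = 1 := by
    rintro y ⟨k, hk1⟩ hy
    have h1 : orderOf y ∣ p ^ k := orderOf_dvd_of_pow_eq_one hk1
    have h2 : orderOf y ∣ Nat.card π.ker := by
      have := _root_.orderOf_dvd_natCard (⟨y, hy⟩ : π.ker)
      rwa [← Subgroup.orderOf_coe] at this
    have h3 : Nat.Coprime (p ^ k) (Nat.card π.ker) := Nat.Coprime.pow_left _ ((Nat.Prime.coprime_iff_not_dvd hp.out).2 hk)
    exact orderOf_eq_one_iff.1 (Nat.eq_one_of_dvd_coprimes h3 h1 h2)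
  have hpe : ∀ (Q : Sylow p G) (y : G), y ∈ (Q : Subgroup G) → ∃ k, y ^ p ^ k = 1 := by
    intro Q y hy
    obtain ⟨k, hk⟩ := Q.isPGroup' ⟨y, hy⟩
    exact ⟨k, congrArg Subtype.val hk⟩
  have hcQ : ∀ (Q : Sylow p G), ∀ z ∈ π.ker, ∀ x ∈ (Q : Subgroup G), z * x = x * z := by
    intro Q z hz x hx
    obtain ⟨g, rfl⟩ := MulAction.exists_smul_eq G P Q
    obtain ⟨y, hy, rfl⟩ := mem_smul'.1 hx
    have h1 := hc (g⁻¹ * z * g) (by
      have := (MonoidHom.normal_ker π).conj_mem z hz g⁻¹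
      rwa [inv_inv] at this) y hy
    have h2 : z * (g * y * g⁻¹) = g * (g⁻¹ * z * g * y) * g⁻¹ := by group
    rw [h2, h1]
    group
  refine h.of_map hπ ?_ ?_
  · intro Q R hQR
    have h1 : (R : Subgroup G) ≤ Q := by
      intro r hr
      have h2 : π r ∈ (Q : Subgroup G).map π := by
        have h3 := congrArg (fun S : Sylow p H => (S : Subgroup H)) hQR
        have h4 : (Q : Subgroup G).map π = (R : Subgroup G).map π := h3
        rw [h4]
        exact ⟨r, hr, rfl⟩
      obtain ⟨x, hx, hxr⟩ := h2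
      have h3 : x⁻¹ * r ∈ π.ker := by
        rw [MonoidHom.mem_ker, map_mul, map_inv, hxr, inv_mul_cancel]
      have h4 : x⁻¹ * r = 1 := by
        refine hpn ?_ h3
        obtain ⟨k, hk⟩ := hpe Q x hx
        obtain ⟨l, hl⟩ := hpe R r hr
        have h5 : Commute x (x⁻¹ * r) := (hcQ Q _ h3 x hx).symm
        have h6 := h5.mul_pow (p ^ (k + l))
        rw [mul_inv_cancel_left] at h6
        have h7 : r ^ p ^ (k + l) = 1 := by rw [pow_add, mul_comm, pow_mul, hl, one_pow]
        have h8 : x ^ p ^ (k + l) = 1 := by rw [pow_add, pow_mul, hk, one_pow]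
        rw [h7, h8, one_mul] at h6
        exact ⟨_, h6.symm⟩
      rw [← inv_mul_eq_one.1 h4]
      exact hx
    exact (Sylow.ext (R.is_maximal' Q.isPGroup' h1))
  · intro x hx hx1
    exact hpn (hpe P x hx) hx1

end

end Cfsg.Agent.H417.P4
end

-- part: H417/P4/RkCq
section
/-!
# S5210, RK from the structure part, the form with a quotient (helper417)

`stRk_of_cq` : `StRk` from the structure theorem of RKa (`PSL₂(pᵐ) →* G ⧸ N`, `N` a `p'`-core centralizing the Sylow subgroups).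
-/

set_option autoImplicit false

namespace Cfsg.Agent.H417.P4

open Subgroup
open Cfsg.Agent.H367.PU

universe u

/-- (RKa) the structure part of `StRk`, with a quotient -/
def StRkQuo : Prop :=
  ∀ {G : Type u} [Group G] [Finite G] {p m : ℕ} [Fact p.Prime] (P : Sylow p G), 2 ≤ m →
    (∀ g : G, g ∉ Subgroup.normalizer ((P : Subgroup G) : Set G) → ∀ x ∈ (P : Subgroup G), g * x * g⁻¹ ∈ (P : Subgroup G) →
      x = 1) →
    ¬ (P : Subgroup G).Normal → Nat.card P = p ^ m →
    (∀ x ∈ (P : Subgroup G), ∀ y ∈ (P : Subgroup G), x * y = y * x) → (∀ x ∈ (P : Subgroup G), x ^ p = 1) →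
    (p ≠ 2 → Nat.card G ∣ Nat.card (GL (Fin (2 * m)) (ZMod p))) →
    ∃ (F : Type) (_ : Field F) (_ : Fintype F) (N : Subgroup G) (_ : N.Normal)
      (f : Matrix.ProjectiveSpecialLinearGroup (Fin 2) F →* G ⧸ N),
      Fintype.card F = p ^ m ∧ CQ p N ∧ Function.Injective f ∧ ∀ Q : Sylow p (G ⧸ N), (Q : Subgroup (G ⧸ N)) ≤ f.range

theorem concl_of_cq {G : Type*} [Group G] [Finite G] {p m : ℕ} [hp : Fact p.Prime] (P : Sylow p G) (hm : 0 < m) {F : Type*}
    [Field F] [Fintype F] (hF : Fintype.card F = p ^ m) {N : Subgroup G} [N.Normal] (hN : CQ p N)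
    (f : Matrix.ProjectiveSpecialLinearGroup (Fin 2) F →* G ⧸ N) (hf : Function.Injective f)
    (hr : ∀ Q : Sylow p (G ⧸ N), (Q : Subgroup (G ⧸ N)) ≤ f.range) : Concl m P := by
  refine Concl.of_ker (QuotientGroup.mk'_surjective N) ?_ ?_ (Concl.of_inj f hf hr (concl_psl hF hm _))
  · rw [QuotientGroup.ker_mk']
    exact fun h => hp.out.one_lt.ne' (Nat.eq_one_of_dvd_coprimes hN.cop h dvd_rfl)
  · rw [QuotientGroup.ker_mk']
    exact hN.comm P

/-- **(RKb)**, the form with a quotient -/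
theorem stRk_of_cq (h : StRkQuo.{u}) : H776.P4.StRk.{u} := by
  intro G _ _ p m _ P hm hTI hn hP hab hexp hd
  obtain ⟨F, _, _, N, _, f, hF, hN, hf, hr⟩ := h P hm hTI hn hP hab hexp hd
  exact (concl_of_cq P (by omega) hF hN f hf hr).out

end Cfsg.Agent.H417.P4
end

private theorem dce_72af1195623b : _root_.True := by
  try have : _root_.True := by simp only [_root_.Cfsg.Agent.H417.P4.wm.congr_simp]
  exact _root_.True.intro
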